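import Cfsg.Agent.H389.R.W5

/-!
# S3530: two components, one of them is `R` (helper65)

`M2.ree_of_ree`: if one component is isomorphic to `R = ²G₂(3^(2m+1))` then so is the other.
-/

set_option autoImplicit false
set_option linter.unusedSectionVars false

namespace Cfsg.Agent.H389.RSq

open Subgroup
open Cfsg.Agent.H389.JSq (Has)

universe u

namespace ReeAux

section
variable {m : ℕ} {σ : Fin 5 → ℕ} {X Y : Type u} [Group X] [Finite X] [Group Y] [Finite Y] {f : X →* Y}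
  {K L : Subgroup Y}

theorem exists_ne_ne (i j : Fin 5) : ∃ l : Fin 5, l ≠ i ∧ l ≠ j := by
  revert i j; decide

/-- the other component does not join two classes -/
theorem no_edge (h : M2 m σ f K L) (hK : IsRee m K) {i j : Fin 5} (hij : i ≠ j)
    (hh : Has L (σ i * σ j)) : False := by
  obtain ⟨l, hli, hlj⟩ := exists_ne_ne i j
  refine M2.f1 h.symm (h.sig.tri hij hli.symm hlj.symm) hh ?_
  rw [hK.card]
  exact h.sig.dvd l

theorem mem_Lam {L : Type u} [Group L] [Finite L] {i : Fin 5} : i ∈ Lam σ L ↔ σ i ∣ Nat.card L := by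
  simp [Lam]

/-- the primes of a group of linear type -/
theorem dvd_of_mem {s e : ℕ} {L : Type u} [Group L] [Finite L] (hL : IsL2 s e L) {p : ℕ} (hp : p.Prime)
    (hd : p ∣ Nat.card L) : p = s ∨ p ∣ s ^ e - 1 ∨ p ∣ s ^ e + 1 := by
  have h1 : p ∣ s ^ e * (s ^ e - 1) * (s ^ e + 1) := by
    by_cases hs : s = 2
    · rw [← hL.psl.card_even hs]; exact hd
    · rw [← hL.psl.card_odd hs]; exact hd.mul_left 2
  rcases (Nat.Prime.dvd_mul hp).mp h1 with h2 | h2
  · rcases (Nat.Prime.dvd_mul hp).mp h2 with h3 | h3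
    · left
      exact (Nat.prime_dvd_prime_iff_eq hp hL.psl.1).mp (hp.dvd_of_dvd_pow h3)
    · exact Or.inr (Or.inl h3)
  · exact Or.inr (Or.inr h2)

/-- primes dividing `|L|` divide `|R|` -/
theorem prime_dvd (h : M2 m σ f K L) {p : ℕ} (hp : p.Prime) (hd : p ∣ Nat.card L) : p ∣ reeCard m := by
  have : Fact p.Prime := ⟨hp⟩
  obtain ⟨x, hx⟩ := exists_prime_orderOf_dvd_card' p hd
  have h1 : Has Y p := ⟨(x : Y), by rw [Subgroup.orderOf_coe, hx]⟩
  obtain ⟨g, hg⟩ := h1.of_surjective f h.surj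
  exact h.cl.prm g p hp (by rw [hg])

theorem card_lam_le (h : M2 m σ f K L) (hK : IsRee m K) (hL : ¬ IsRee m L) : (Lam σ L).card ≤ 3 := by
  rcases h.isKL with ⟨s, e, hLe⟩ | ⟨m₁, hLm⟩
  · have hS := h.sig
    -- at most one class in each of the three parts
    set A := Finset.univ.filter fun i : Fin 5 => σ i = s with hA
    set B := Finset.univ.filter fun i : Fin 5 => σ i ∣ s ^ e - 1 with hB
    set C := Finset.univ.filter fun i : Fin 5 => σ i ∣ s ^ e + 1 with hC
    have h1 : Lam σ L ⊆ A ∪ B ∪ C := by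
      intro i hi
      rw [mem_Lam] at hi
      simp only [hA, hB, hC, Finset.mem_union, Finset.mem_filter, Finset.mem_univ, true_and]
      rcases dvd_of_mem hLe (hS.prime i) hi with h2 | h2 | h2
      · exact Or.inl (Or.inl h2)
      · exact Or.inl (Or.inr h2)
      · exact Or.inr h2
    have hA1 : A.card ≤ 1 := by
      rw [Finset.card_le_one]
      intro a ha b hb
      simp only [hA, Finset.mem_filter, Finset.mem_univ, true_and] at ha hb
      exact hS.inj (ha.trans hb.symm)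
    have hB1 : B.card ≤ 1 := by
      rw [Finset.card_le_one]
      intro a ha b hb
      simp only [hB, Finset.mem_filter, Finset.mem_univ, true_and] at ha hb
      by_contra hab
      exact no_edge h hK hab (hLe.psl.has_mul (hS.prime a) (hS.prime b) (hS.ne_two a) (hS.ne_two b)
        (hS.ne hab) (Or.inl ⟨ha, hb⟩))
    have hC1 : C.card ≤ 1 := by
      rw [Finset.card_le_one]
      intro a ha b hb
      simp only [hC, Finset.mem_filter, Finset.mem_univ, true_and] at ha hb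
      by_contra hab
      exact no_edge h hK hab (hLe.psl.has_mul (hS.prime a) (hS.prime b) (hS.ne_two a) (hS.ne_two b)
        (hS.ne hab) (Or.inr ⟨ha, hb⟩))
    calc (Lam σ L).card ≤ (A ∪ B ∪ C).card := Finset.card_le_card h1
      _ ≤ (A ∪ B).card + C.card := Finset.card_union_le _ _
      _ ≤ A.card + B.card + C.card := Nat.add_le_add_right (Finset.card_union_le _ _) _
      _ ≤ 3 := by omega
  · have hm : m₁ ≠ m := by
      rintro rfl
      exact hL hLm
    have h1 := h.sig.ree m₁ hLm.1 hm (fun p hp hd => prime_dvd h hp (by rw [hLm.card]; exact hd))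
    have h2 : Lam σ L = Finset.univ.filter fun i : Fin 5 => σ i ∣ reeCard m₁ := by
      rw [Lam, hLm.card]
    rw [h2]
    omega

/-- a class outside the other component in the kernel -/
theorem exists_w (h : M2 m σ f K L) (hK : IsRee m K) (hL : ¬ IsRee m L) :
    ∃ w, w ∉ Lam σ L ∧ w ≠ 0 ∧ σ w ∣ Nat.card f.ker := by
  have h3 := card_lam_le h hK hL
  have h1 : 1 < (Finset.univ \ Lam σ L).card := by
    rw [Finset.card_sdiff_of_subset (Finset.subset_univ _), Finset.card_univ, Fintype.card_fin]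
    omega
  obtain ⟨i, hi, j, hj, hij⟩ := Finset.one_lt_card.mp h1
  simp only [Finset.mem_sdiff, Finset.mem_univ, true_and] at hi hj
  have h0 := h.isKL.zero_mem h.sig
  by_cases hd : σ i ∣ Nat.card f.ker
  · exact ⟨i, hi, fun e => hi (e ▸ h0), hd⟩
  · exact ⟨j, hj, fun e => hj (e ▸ h0), h.symm.e1 hij hi hj hd⟩

theorem sigma_one_dvd (S : Sig m σ) : σ 1 ∣ 3 ^ (2 * m + 1) - 1 := by
  have h := S.cls 1
  unfold cls at h
  split_ifs at h with h1 h2 h3 h4
  · exact absurd h (by decide)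
  · exact h2
  · exact absurd h (by decide)
  · exact absurd h (by decide)
  · exact absurd h (by decide)

/-- the pivot of `R` -/
theorem exists_piv (h : M2 m σ f K L) (hK : IsRee m K) {w : Fin 5} (hw : w ≠ 0) :
    ∃ v r : ℕ, v.Prime ∧ r.Prime ∧ r ≠ 2 ∧ v ≠ r ∧ v ≠ σ w ∧ Piv K v r ∧ cls m r ≠ 0 ∧ cls m r ≠ w ∧
      r ∣ Nat.card K := by
  obtain ⟨h7, h70, h71⟩ := cls_seven h.hm
  by_cases hw7 : w = cls m 7
  · have h13 : σ 1 ≠ 3 := by
      rw [← h.sig.zero]; exact h.sig.ne (by decide)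
    refine ⟨3, σ 1, Nat.prime_three, h.sig.prime 1, h.sig.ne_two 1, h13.symm, ?_,
      hK.piv (h.sig.prime 1) (h.sig.ne_two 1) (sigma_one_dvd h.sig), ?_, ?_, ?_⟩
    · rw [← h.sig.zero]; exact h.sig.ne hw.symm
    · rw [h.sig.cls]; decide
    · rw [h.sig.cls, hw7]; exact h71.symm
    · rw [hK.card]; exact h.sig.dvd 1
  · exact ⟨2, 7, Nat.prime_two, by norm_num, by norm_num, by norm_num, (h.sig.ne_two w).symm, hK.piv_seven, h70,
      fun e => hw7 e.symm, by rw [hK.card]; exact h7⟩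

end

end ReeAux

open ReeAux

section
variable {m : ℕ} {σ : Fin 5 → ℕ} {X Y : Type u} [Group X] [Finite X] [Group Y] [Finite Y] {f : X →* Y}
  {K L : Subgroup Y}

/-- **one component is `R`: so is the other** -/
theorem M2.ree_of_ree (h : M2 m σ f K L) (hK : IsRee m K) : IsRee m L := by
  by_contra hL
  have hS := h.sig
  obtain ⟨P, H, C⟩ := h.toM0.exists_cov (D := ⊤) (E := K ⊔ L) (by rw [h.toM0.top_map]; exact le_top)
  have C' : Cov f ⊤ (L ⊔ K) P H := by rw [sup_comm]; exact C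
  have hE := h.perfect
  have hnm : ∀ ℓ : ℕ, ℓ.Prime → ℓ ≠ 2 → NoMult ℓ (K ⊔ L : Subgroup Y) := fun ℓ h1 h2 => h.noMult h1 h2
  have hkE : ((⊤ : Subgroup X) ⊓ f.ker) = f.ker := top_inf_eq _
  have hPk : ∀ p : ℕ, p ∣ Nat.card (P ⊓ f.ker : Subgroup X) → p ∣ Nat.card f.ker := by
    intro p hp
    have := hp.trans (card_dvd_of_le C.ker_le)
    rwa [hkE] at this
  have hdk : ∀ p : ℕ, p ∣ Nat.card f.ker → p ∣ Nat.card ((⊤ : Subgroup X) ⊓ f.ker : Subgroup X) := by
    intro p hp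
    rwa [hkE]
  have hKs : IsSimpleGroup K := h.simpleK
  have hLs : IsSimpleGroup L := h.isKL.simple
  have h30 : cls m 3 = 0 := cls_three
  have h3p : Nat.Prime 3 := Nat.prime_three
  have h32 : (3 : ℕ) ≠ 2 := by norm_num
  by_cases h2 : ∀ e, ¬ IsL2 2 e L
  · -- no component of characteristic 2
    have hpivL : Piv L 2 3 := h.isKL.piv_three h2
    obtain ⟨w, hwL, hw0, hwk⟩ := exists_w h hK hL
    obtain ⟨v, r, hv, hr, hr2, hvr, hvw, hpivK, hr0, hrw, hrK⟩ := exists_piv h hK hw0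
    have hwc : cls m (σ w) = w := hS.cls w
    have T3 : Tri m 3 r (σ w) := ⟨h3p, hr, hS.prime w, h32, hr2, hS.ne_two w, by rw [h30]; exact hr0.symm,
      by rw [h30, hwc]; exact hw0.symm, by rw [hwc]; exact hrw⟩
    by_cases hZ : 3 ∣ Nat.card (P ⊓ f.ker : Subgroup X)
    · have hrZ : ¬ r ∣ Nat.card (P ⊓ f.ker : Subgroup X) := fun hd =>
        h.toM0.no_two C hE hnm T3 hZ hd (hdk _ hwk)
      obtain ⟨x, hxP, hxr, hxK, hx⟩ := h.toM0.pivot C hKs le_sup_left hv hr hvr hpivK hrZ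
      have hwx := hx (σ w) (hS.prime w) T3.nqr.symm hvw.symm (hdk _ hwk)
      have hLx := h.le_map C hxP hxK (by rw [hxr]; exact (Nat.Prime.coprime_iff_not_dvd hr).mpr hrZ)
      have h3x : ¬ 3 ∣ Nat.card (centralizer {x} ⊓ f.ker : Subgroup X) := fun hd =>
        h.toM0.tlem (t := 3) T3.swap hxr h.isKL hLx hd hwx h.isKL.three_dvd (Or.inl rfl)
      exact h.toM0.pivot_cent (v := 2) T3.swap hxr hLs hLx Nat.prime_two (by norm_num) (hS.ne_two w).symm hpivL
        hwx h3x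
    · obtain ⟨z, hzP, hz3, hzL, hz⟩ := h.toM0.pivot C hLs le_sup_right Nat.prime_two h3p (by norm_num) hpivL hZ
      have hwz := hz (σ w) (hS.prime w) T3.npr.symm (hS.ne_two w) (hdk _ hwk)
      have hKz := h.symm.le_map C' hzP hzL (by rw [hz3]; exact (Nat.Prime.coprime_iff_not_dvd h3p).mpr hZ)
      have hrz : ¬ r ∣ Nat.card (centralizer {z} ⊓ f.ker : Subgroup X) := fun hd =>
        h.toM0.tlem (t := r) T3 hz3 h.isKK hKz hd hwz hrK (Or.inl rfl)
      exact h.toM0.pivot_cent T3 hz3 hKs hKz hv hvr hvw hpivK hwz hrz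
  · -- characteristic 2
    push Not at h2
    obtain ⟨e, hLe⟩ := h2
    obtain ⟨p, hp⟩ := h.minusL e hLe
    have h3e : 3 ∣ 2 ^ e + 1 := by
      have := hLe.odd.nat_add_dvd_pow_add_pow 2 1
      simpa using this
    have hp0 : p ≠ 0 := by
      rintro rfl
      rw [hS.zero] at hp
      have h1 : 1 ≤ 2 ^ e := Nat.one_le_two_pow
      have h4 : 3 ∣ (2 ^ e + 1) - (2 ^ e - 1) := Nat.dvd_sub h3e hp
      have h5 : (2 ^ e + 1) - (2 ^ e - 1) = 2 := by omega
      rw [h5] at h4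
      exact absurd h4 (by norm_num)
    have hΛ : ∀ i ∈ Lam σ L, i = 0 ∨ i = p := by
      intro i hi
      rw [mem_Lam] at hi
      by_contra hcon
      push Not at hcon
      rcases dvd_of_mem hLe (hS.prime i) hi with h4 | h4 | h4
      · exact hS.ne_two i h4
      · exact no_edge h hK hcon.2 (hLe.psl.has_mul (hS.prime i) (hS.prime p) (hS.ne_two i) (hS.ne_two p)
          (hS.ne hcon.2) (Or.inl ⟨h4, hp⟩))
      · exact no_edge h hK hcon.1 (hLe.psl.has_mul (hS.prime i) (hS.prime 0) (hS.ne_two i) (hS.ne_two 0)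
          (hS.ne hcon.1) (Or.inr ⟨h4, by rw [hS.zero]; exact h3e⟩))
    -- two classes in the kernel
    obtain ⟨w, w', hww, hw0, hwp, hw'0, hw'p, hwk, hw'k⟩ : ∃ w w' : Fin 5, w ≠ w' ∧ w ≠ 0 ∧ w ≠ p ∧ w' ≠ 0 ∧
        w' ≠ p ∧ σ w ∣ Nat.card f.ker ∧ σ w' ∣ Nat.card f.ker := by
      obtain ⟨a, b, c, hab, hac, hbc, ha0, hb0, hc0, hap, hbp, hcp⟩ : ∃ a b c : Fin 5, a ≠ b ∧ a ≠ c ∧ b ≠ c ∧
          a ≠ 0 ∧ b ≠ 0 ∧ c ≠ 0 ∧ a ≠ p ∧ b ≠ p ∧ c ≠ p := by
        clear hp hp0 hΛ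
        revert p; decide
      have hnot : ∀ i, i ≠ 0 → i ≠ p → i ∉ Lam σ L := by
        intro i h0 hp' hi
        rcases hΛ i hi with h | h
        exacts [h0 h, hp' h]
      have key : ∀ i j, i ≠ j → i ≠ 0 → i ≠ p → j ≠ 0 → j ≠ p → ¬ σ i ∣ Nat.card f.ker →
          σ j ∣ Nat.card f.ker := fun i j hij hi0 hip hj0 hjp hd =>
        h.symm.e1 hij (hnot i hi0 hip) (hnot j hj0 hjp) hd
      by_cases hda : σ a ∣ Nat.card f.ker
      · by_cases hdb : σ b ∣ Nat.card f.ker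
        · exact ⟨a, b, hab, ha0, hap, hb0, hbp, hda, hdb⟩
        · exact ⟨a, c, hac, ha0, hap, hc0, hcp, hda, key b c hbc hb0 hbp hc0 hcp hdb⟩
      · exact ⟨b, c, hbc, hb0, hbp, hc0, hcp, key a b hab ha0 hap hb0 hbp hda, key a c hac ha0 hap hc0 hcp hda⟩
    have hpivL : Piv L 2 (σ p) := hLe.psl.piv (hS.prime p) (hS.ne_two p) hp
    by_cases hZ : σ p ∣ Nat.card (P ⊓ f.ker : Subgroup X)
    · have hZ3 : ¬ 3 ∣ Nat.card (P ⊓ f.ker : Subgroup X) := fun hd => by
        rw [← hS.zero] at hd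
        exact h.toM0.no_two C hE hnm (hS.tri hp0.symm hw0.symm hwp.symm) hd hZ (hdk _ hwk)
      obtain ⟨z, hzP, hz3, hzK, hz⟩ := h.toM0.pivot C hKs le_sup_left Nat.prime_two h3p (by norm_num) hK.piv_three hZ3
      have hne3 : ∀ i : Fin 5, i ≠ 0 → σ i ≠ 3 := fun i hi => by rw [← hS.zero]; exact hS.ne hi
      refine h.toM0.no_three (hS.tri hww hwp hw'p) h3p h32 ?_ ?_ ?_ hz3
        (hz _ (hS.prime w) (hne3 w hw0) (hS.ne_two w) (hdk _ hwk))
        (hz _ (hS.prime w') (hne3 w' hw'0) (hS.ne_two w') (hdk _ hw'k))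
        (hz _ (hS.prime p) (hne3 p hp0) (hS.ne_two p) (hdk _ (hPk _ hZ)))
      · rw [h30, hS.cls]; exact hw0.symm
      · rw [h30, hS.cls]; exact hw'0.symm
      · rw [h30, hS.cls]; exact hp0.symm
    · obtain ⟨x, hxP, hxr, hxL, hx⟩ := h.toM0.pivot C hLs le_sup_right Nat.prime_two (hS.prime p)
        (hS.ne_two p).symm hpivL hZ
      have hKx := h.symm.le_map C' hxP hxL (by
        rw [hxr]; exact (Nat.Prime.coprime_iff_not_dvd (hS.prime p)).mpr hZ)
      exact h.toM0.tlem (t := σ w) (hS.tri hwp.symm hw'p.symm hww) hxr h.isKK hKx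
        (hx _ (hS.prime w) (hS.ne hwp) (hS.ne_two w) (hdk _ hwk))
        (hx _ (hS.prime w') (hS.ne hw'p) (hS.ne_two w') (hdk _ hw'k))
        (by rw [hK.card]; exact hS.dvd w) (Or.inl rfl)

end

end Cfsg.Agent.H389.RSq
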